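import Groth.Agent.L20.StrictHensWE
import Groth.Agent.L20.WeaklyEtaleStalk

/-!
# Weakly étale local maps with trivial residue extension, and henselizations
-/

universe u

open IsLocalRing TensorProduct

namespace Groth.L05.HensTensor

set_option linter.style.haveILetI false

/-- The henselian variant of `Groth.L27.Olivier.algHom_field_unique`. -/
theorem algHom_field_unique (A B K : Type u) [CommRing A] [HenselianLocalRing A] [CommRing B]
    [IsLocalRing B] [Algebra A B]
    (hB : ∀ b : B, ∃ a, b - algebraMap A B a ∈ maximalIdeal B)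
    [IsLocalHom (algebraMap A B)] [Algebra.WeaklyEtale A B] [Field K] [IsAlgClosed K] [Algebra A K]
    (f g : B →ₐ[A] K) : f = g := by
  refine AlgHom.ext fun b => by_contra fun hne => ?_
  let x : K ⊗[A] B := (1 : K) ⊗ₜ b - f b ⊗ₜ (1 : B)
  obtain ⟨y, hy⟩ := Groth.L27.Olivier.exists_sq_mul
    (fun M _ _ => Groth.L27.Olivier.forall_flat K (K ⊗[A] B) M) x
  have he : IsIdempotentElem (x * y) := by
    change x * y * (x * y) = x * y
    linear_combination y * hy
  let F : K ⊗[A] B →ₐ[A] K := Algebra.TensorProduct.lift (AlgHom.id A K) f fun _ _ => Commute.all _ _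
  let G : K ⊗[A] B →ₐ[A] K := Algebra.TensorProduct.lift (AlgHom.id A K) g fun _ _ => Commute.all _ _
  have hF : F (x * y) = 0 := by simp [F, x]
  have hG : G (x * y) ≠ 0 := by
    intro h0
    have hx : G x = g b - f b := by simp [G, x]
    have := congrArg G hy
    rw [mul_assoc, map_mul, h0, mul_zero, hx] at this
    exact hne (sub_eq_zero.mp this.symm).symm
  let P := integralClosure A K
  haveI := Groth.L27.Olivier.isLocalRing_integralClosure A K
  let ι : P ⊗[A] B →ₐ[A] K ⊗[A] B :=
    Algebra.TensorProduct.map (IsScalarTower.toAlgHom A P K) (AlgHom.id A B)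
  obtain ⟨w, hw'⟩ : ∃ w : P ⊗[A] B, ι w = x * y := by
    obtain ⟨w₀, hw₀⟩ := Groth.L27.Olivier.idempotent_mem_integralClosure A K B (x * y) he
    exact ⟨w₀, hw₀⟩
  have hinj : Function.Injective ι :=
    Groth.L27.Olivier.map_injective A P K B Subtype.val_injective
  haveI : Nontrivial (B ⊗[A] P) :=
    RingHom.domain_nontrivial ((F.comp ι).comp (Algebra.TensorProduct.comm A B P).toAlgHom).toRingHom
  haveI := Groth.L27.Olivier.isLocalRing_tensor A B P hB
  haveI : IsLocalRing (P ⊗[A] B) := (Algebra.TensorProduct.comm A B P).toRingEquiv.isLocalRing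
  have hwi : IsIdempotentElem w := hinj (by rw [map_mul, hw']; exact he)
  rcases IsLocalRing.isUnit_or_isUnit_one_sub_self w with h | h
  · have : w = 1 := h.mul_left_cancel (hwi.eq.trans (mul_one w).symm)
    rw [this, map_one] at hw'
    rw [← hw', map_one] at hF
    exact one_ne_zero hF
  · have : w = 0 := h.mul_left_eq_zero.mp (by rw [mul_sub, mul_one, hwi.eq, sub_self])
    rw [this, map_zero] at hw'
    exact hG (by rw [← hw', map_zero])

/-- A weakly étale local map out of a henselian local ring with trivial residue extension is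
bijective. -/
theorem bijective_algebraMap (A B : Type u) [CommRing A] [CommRing B] [HenselianLocalRing A]
    [IsLocalRing B] [Algebra A B] [IsLocalHom (algebraMap A B)] [Algebra.WeaklyEtale A B]
    (hB : ∀ b : B, ∃ a, b - algebraMap A B a ∈ maximalIdeal B) :
    Function.Bijective (algebraMap A B) := by
  haveI : Module.FaithfullyFlat A B := Module.FaithfullyFlat.of_flat_of_isLocalHom
  refine ⟨FaithfulSMul.algebraMap_injective A B, fun b => ?_⟩
  have hb : b ⊗ₜ[A] (1 : B) = (1 : B) ⊗ₜ[A] b := by
    obtain ⟨e, he, hze⟩ := Groth.L20.exists_lmul_eq_one_mul_eq_zero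
      (Algebra.WeaklyEtale.flat_lmul' A B)
      (fun _ : Fin 1 => b ⊗ₜ[A] (1 : B) - (1 : B) ⊗ₜ[A] b) (fun _ => by simp)
    suffices hu : IsUnit e by exact sub_eq_zero.mp (hu.mul_left_eq_zero.mp (hze 0))
    by_contra hu
    obtain ⟨n, hn, hen⟩ := exists_max_ideal_of_mem_nonunits hu
    letI := Ideal.Quotient.field n
    let K := AlgebraicClosure ((B ⊗[A] B) ⧸ n)
    let h : B ⊗[A] B →ₐ[A] K := (IsScalarTower.toAlgHom A ((B ⊗[A] B) ⧸ n) K).comp (Ideal.Quotient.mkₐ A n)
    have hfg := algHom_field_unique A B K hB (h.comp Algebra.TensorProduct.includeLeft)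
      (h.comp Algebra.TensorProduct.includeRight)
    have hh : h = (h.comp Algebra.TensorProduct.includeLeft).comp (Algebra.TensorProduct.lmul' A) := by
      refine Algebra.TensorProduct.ext (AlgHom.ext fun x => ?_) (AlgHom.ext fun x => ?_)
      · simp
      · have := AlgHom.congr_fun hfg x
        simp only [AlgHom.comp_apply, Algebra.TensorProduct.includeLeft_apply,
          Algebra.TensorProduct.includeRight_apply] at this
        simp [this]
    have h1 := AlgHom.congr_fun hh e
    rw [AlgHom.comp_apply _ (Algebra.TensorProduct.lmul' A), he, map_one] at h1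
    refine one_ne_zero (α := K) (h1.symm.trans ?_)
    change algebraMap _ K (Ideal.Quotient.mk n e) = 0
    rw [Ideal.Quotient.eq_zero_iff_mem.mpr hen, map_zero]
  let R : Submodule A B := LinearMap.range (Algebra.linearMap A B)
  have hQ : R.mkQ b = 0 := by
    apply Module.FaithfullyFlat.tensorProduct_mk_injective (A := A) (B := B) (B ⧸ R)
    have := congrArg (R.mkQ.lTensor B) hb
    simp only [LinearMap.lTensor_tmul] at this
    rw [TensorProduct.mk_apply, TensorProduct.mk_apply, ← this, TensorProduct.tmul_zero,
      show R.mkQ (1 : B) = 0 from (Submodule.Quotient.mk_eq_zero R).mpr ⟨1, map_one (algebraMap A B)⟩,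
      TensorProduct.tmul_zero]
  obtain ⟨a, ha⟩ := (Submodule.Quotient.mk_eq_zero R).mp hQ
  exact ⟨a, ha⟩

/-- Transport of a henselization along an isomorphism over the base. -/
theorem isHenselization_of_ringEquiv {A S R : Type u} [CommRing A] [IsLocalRing A] [CommRing S]
    [IsLocalRing S] [CommRing R] [IsLocalRing R] [Algebra A S] [IsLocalHom (algebraMap A S)]
    [hS : Hensel.IsHenselization A S] [Algebra A R] [IsLocalHom (algebraMap A R)]
    [HenselianLocalRing R] (g : S ≃+* R)
    (hg : g.toRingHom.comp (algebraMap A S) = algebraMap A R) : Hensel.IsHenselization A R where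
  henselian := inferInstance
  universal T _ _ f hf := by
    obtain ⟨h, h1, hu⟩ := hS.universal T f hf
    refine ⟨h.comp g.symm.toRingHom, RingHom.ext fun a => ?_, fun h' h1' => ?_⟩
    · change h (g.symm (algebraMap A R a)) = f a
      rw [← hg]
      change h (g.symm (g (algebraMap A S a))) = f a
      rw [g.symm_apply_apply]
      exact DFunLike.congr_fun h1 a
    · have := hu (h'.comp g.toRingHom) (by simp only [RingHom.comp_assoc, hg, h1'])
      refine RingHom.ext fun x => ?_
      rw [← this]
      change h' x = h' (g (g.symm x))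
      rw [g.apply_symm_apply]

/-- A local weakly étale map with trivial residue extension to a henselian local ring is a
henselization. -/
theorem isHenselization_of_weaklyEtale (A C : Type u) [CommRing A] [IsLocalRing A] [CommRing C]
    [IsLocalRing C] [HenselianLocalRing C] [Algebra A C] [IsLocalHom (algebraMap A C)]
    [Algebra.WeaklyEtale A C]
    (hC : ∀ c : C, ∃ a, c - algebraMap A C a ∈ maximalIdeal C) :
    Hensel.IsHenselization A C := by
  obtain ⟨H, _, _, _, _, hH⟩ := Groth.L05.Henselization.exists_isHenselization A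
  haveI := hH.henselian
  obtain ⟨g, hg, -⟩ := hH.universal C (algebraMap A C) inferInstance
  letI : Algebra H C := g.toAlgebra
  haveI : IsScalarTower A H C := IsScalarTower.of_algebraMap_eq' hg.symm
  haveI : IsLocalHom (algebraMap H C) := by
    refine ((IsLocalRing.local_hom_TFAE _).out 0 2 rfl rfl).mpr ?_
    rw [← Groth.L05.Henselization.map_maximalIdeal_of_isHenselization A H, Ideal.map_map,
      ← IsScalarTower.algebraMap_eq]
    exact ((IsLocalRing.local_hom_TFAE _).out 0 2 rfl rfl).mp (inferInstance : IsLocalHom (algebraMap A C))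
  haveI : Algebra.WeaklyEtale A H :=
    Groth.L27.IndEtale.weaklyEtale _ _ (Groth.L05.Henselization.isIndEtale_of_isHenselization A H)
  obtain ⟨hflat, hμ⟩ := Groth.L20.TorAmp.weaklyEtale_cancel A H C
  haveI : Algebra.WeaklyEtale H C := ⟨hflat, hμ⟩
  exact isHenselization_of_ringEquiv
    (RingEquiv.ofBijective (algebraMap H C) (bijective_algebraMap H C fun c => by
      obtain ⟨a, ha⟩ := hC c
      exact ⟨algebraMap A H a, by rwa [← IsScalarTower.algebraMap_apply]⟩)) hg

/-- A strictly henselian local ring is its own strict henselization. -/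
theorem isStrictHenselization_self (C : Type u) [CommRing C] [IsLocalRing C]
    [HenselianLocalRing C] [IsSepClosed (ResidueField C)] :
    Hensel.IsStrictHenselization C C where
  henselian := inferInstance
  isSepClosure := by
    have e : (ResidueField.instAlgebra : Algebra (ResidueField C) (ResidueField C)) =
        Algebra.id (ResidueField C) := Algebra.algebra_ext _ _ fun x => by
      obtain ⟨c, rfl⟩ := residue_surjective x
      rfl
    rw! [e]
    exact ⟨inferInstance, inferInstance⟩
  universal T _ _ f _ τ hτ := by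
    refine ⟨f, ⟨RingHom.comp_id _, fun x => ?_⟩, fun g hg => (RingHom.comp_id g).symm.trans hg.1⟩
    exact (DFunLike.congr_fun hτ (residue C x)).symm

/-- A local weakly étale map to a strictly henselian local ring is a strict henselization. -/
theorem isStrictHenselization_of_weaklyEtale (A C : Type u) [CommRing A] [IsLocalRing A]
    [CommRing C] [IsLocalRing C] [HenselianLocalRing C] [IsSepClosed (ResidueField C)]
    [Algebra A C] [IsLocalHom (algebraMap A C)] [Algebra.WeaklyEtale A C] :
    Hensel.IsStrictHenselization A C := by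
  haveI := isStrictHenselization_self C
  obtain ⟨h1, h2⟩ := (Groth.L20.StrictHensWE.weaklyEtale_iff A C).mp inferInstance C
  have e : ((algebraMap C C).comp (algebraMap A C)).toAlgebra = ‹Algebra A C› :=
    Algebra.algebra_ext _ _ fun _ => rfl
  revert h1 h2
  rw! [e]
  exact fun _ h2 => h2

/-- Two strict henselizations are isomorphic over the base. -/
theorem exists_algEquiv_of_isStrictHenselization {R S S' : Type u} [CommRing R] [IsLocalRing R]
    [CommRing S] [IsLocalRing S] [Algebra R S] [IsLocalHom (algebraMap R S)]
    [hS : Hensel.IsStrictHenselization R S] [CommRing S'] [IsLocalRing S'] [Algebra R S']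
    [IsLocalHom (algebraMap R S')] [hS' : Hensel.IsStrictHenselization R S'] :
    Nonempty (S ≃ₐ[R] S') := by
  haveI := hS.henselian
  haveI := hS'.henselian
  haveI := hS.isSepClosure
  haveI := hS'.isSepClosure
  let e := IsSepClosure.equiv (ResidueField R) (ResidueField S) (ResidueField S')
  obtain ⟨g, ⟨hg, hgr⟩, -⟩ := hS.universal S' (algebraMap R S') e.toAlgHom.toRingHom
    e.toAlgHom.comp_algebraMap
  obtain ⟨g', ⟨hg', hgr'⟩, -⟩ := hS'.universal S (algebraMap R S) e.symm.toAlgHom.toRingHom
    e.symm.toAlgHom.comp_algebraMap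
  have h1 : g'.comp g = RingHom.id S := by
    refine (hS.universal S (algebraMap R S) (RingHom.id _) (RingHom.id_comp _)).unique
      ⟨by rw [RingHom.comp_assoc, hg, hg'], fun x => ?_⟩ ⟨RingHom.id_comp _, fun x => rfl⟩
    show residue S (g' (g x)) = _
    rw [hgr', hgr]
    exact e.symm_apply_apply _
  have h2 : g.comp g' = RingHom.id S' := by
    refine (hS'.universal S' (algebraMap R S') (RingHom.id _) (RingHom.id_comp _)).unique
      ⟨by rw [RingHom.comp_assoc, hg', hg], fun x => ?_⟩ ⟨RingHom.id_comp _, fun x => rfl⟩
    show residue S' (g (g' x)) = _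
    rw [hgr, hgr']
    exact e.apply_symm_apply _
  exact ⟨AlgEquiv.ofRingEquiv (f := RingEquiv.ofRingHom g g' h2 h1)
    (fun a => DFunLike.congr_fun hg a)⟩

/-- A bijective algebra map is weakly étale. -/
theorem weaklyEtale_of_bijective (A B : Type u) [CommRing A] [CommRing B] [Algebra A B]
    (h : Function.Bijective (algebraMap A B)) : Algebra.WeaklyEtale A B := by
  haveI : IsLocalization (⊥ : Submonoid A) A :=
    IsLocalization.of_le_isUnit bot_le
  haveI : IsLocalization (⊥ : Submonoid A) B :=
    IsLocalization.isLocalization_of_algEquiv (⊥ : Submonoid A)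
      (AlgEquiv.ofBijective (Algebra.ofId A B) h)
  exact Groth.L20.weaklyEtale_isLocalization (⊥ : Submonoid A) B

end Groth.L05.HensTensor
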