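import Groth.Agent.L05.HensTensor.WEHens
import Mathlib.RingTheory.TensorProduct.Maps
import Mathlib.RingTheory.Localization.AtPrime.Basic

/-!
# The localisation of `Rh ⊗ S` below a henselization of `S`
-/

universe u

open IsLocalRing TensorProduct

namespace Groth.L05.HensTensor

set_option linter.style.haveILetI false

/-- `R → Rh` is weakly étale, for a localisation followed by an ind-étale map. -/
theorem weaklyEtale_of_localization_trans (R Rp Rh : Type u) [CommRing R] [CommRing Rp] [CommRing Rh]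
    [Algebra R Rp] (M : Submonoid R) [IsLocalization M Rp] [Algebra Rp Rh] [Algebra R Rh]
    [IsScalarTower R Rp Rh] (h : EtPBC.IsIndEtale Rp Rh) : Algebra.WeaklyEtale R Rh := by
  haveI := Groth.L20.weaklyEtale_isLocalization M Rp
  haveI := Groth.L27.IndEtale.weaklyEtale _ _ h
  exact Algebra.WeaklyEtale.trans R Rp Rh

variable {R S Rh Sh : Type u} [CommRing R] [CommRing S] [Algebra R S] [CommRing Rh] [Algebra R Rh]
  [Algebra.WeaklyEtale R Rh] [CommRing Sh] [IsLocalRing Sh] [Algebra S Sh]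
  [Algebra.WeaklyEtale S Sh] (φ : Rh ⊗[R] S →+* Sh) (hφ : ∀ s : S, φ (1 ⊗ₜ s) = algebraMap S Sh s)
  (D : Type u) [CommRing D] [Algebra (Rh ⊗[R] S) D]
  [IsLocalization.AtPrime D ((maximalIdeal Sh).comap φ)]

/-- The map `D → Sh` from the localisation of `Rh ⊗ S` at the prime below `Sh`. -/
noncomputable def toSh : D →+* Sh :=
  IsLocalization.lift (M := ((maximalIdeal Sh).comap φ).primeCompl) (g := φ)
    fun y => by_contra fun hu => y.2 ((mem_maximalIdeal _).mpr hu)

@[simp] theorem toSh_algebraMap (x : Rh ⊗[R] S) : toSh φ D (algebraMap _ D x) = φ x :=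
  IsLocalization.lift_eq _ x

theorem isLocalHom_toSh : IsLocalHom (toSh φ D) := by
  refine ⟨fun x hx => ?_⟩
  obtain ⟨⟨a, b⟩, e⟩ := IsLocalization.surj ((maximalIdeal Sh).comap φ).primeCompl x
  dsimp only at e
  have hb : IsUnit (algebraMap (Rh ⊗[R] S) D b) := IsLocalization.map_units D b
  have ha : IsUnit (φ a) := by
    rw [← toSh_algebraMap φ D a, ← e, map_mul]
    exact hx.mul (hb.map _)
  have : IsUnit (algebraMap (Rh ⊗[R] S) D a) :=
    IsLocalization.map_units D (⟨a, fun h => (mem_maximalIdeal _).mp h ha⟩ :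
      ((maximalIdeal Sh).comap φ).primeCompl)
  rw [← e] at this
  exact isUnit_of_mul_isUnit_left this

include hφ in
theorem weaklyEtale_toSh :
    letI := (toSh φ D).toAlgebra
    Algebra.WeaklyEtale D Sh := by
  letI := (toSh φ D).toAlgebra
  letI : Algebra (S ⊗[R] Rh) (Rh ⊗[R] S) :=
    (Algebra.TensorProduct.comm R S Rh).toAlgHom.toRingHom.toAlgebra
  letI : Algebra S (Rh ⊗[R] S) :=
    (Algebra.TensorProduct.includeRight : S →ₐ[R] Rh ⊗[R] S).toRingHom.toAlgebra
  haveI : IsScalarTower S (S ⊗[R] Rh) (Rh ⊗[R] S) := IsScalarTower.of_algebraMap_eq fun s => by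
    show (1 : Rh) ⊗ₜ[R] s = Algebra.TensorProduct.comm R S Rh (s ⊗ₜ[R] (1 : Rh))
    rw [Algebra.TensorProduct.comm_tmul]
  haveI : Algebra.WeaklyEtale (S ⊗[R] Rh) (Rh ⊗[R] S) :=
    weaklyEtale_of_bijective _ _ (Algebra.TensorProduct.comm R S Rh).bijective
  haveI : Algebra.WeaklyEtale S (Rh ⊗[R] S) := Algebra.WeaklyEtale.trans S (S ⊗[R] Rh) (Rh ⊗[R] S)
  letI : Algebra S D := ((algebraMap (Rh ⊗[R] S) D).comp (algebraMap S (Rh ⊗[R] S))).toAlgebra
  haveI : IsScalarTower S (Rh ⊗[R] S) D := IsScalarTower.of_algebraMap_eq' rfl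
  haveI := Groth.L20.weaklyEtale_isLocalization ((maximalIdeal Sh).comap φ).primeCompl D
  haveI : Algebra.WeaklyEtale S D := Algebra.WeaklyEtale.trans S (Rh ⊗[R] S) D
  haveI : IsScalarTower S D Sh := IsScalarTower.of_algebraMap_eq fun s =>
    ((toSh_algebraMap φ D _).trans (hφ s)).symm
  obtain ⟨h1, h2⟩ := Groth.L20.TorAmp.weaklyEtale_cancel S D Sh
  exact ⟨h1, h2⟩

end Groth.L05.HensTensor
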