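import Groth.Agent.L05.Hensel.LocalAlg
import Groth.Agent.L05.Hensel.Product
import Groth.Agent.L05.HensTensor.TensorLocal

/-!
# Quasi-finite points over a henselian local ring
-/

universe u v

open IsLocalRing TensorProduct

namespace Groth.L05.HensTensor

set_option linter.style.haveILetI false

/-- The local ring of a finite type algebra over a henselian local ring at a quasi-finite point of
the closed fibre is a quotient of the algebra, and is finite over the base. -/
theorem finite_localization_atPrime (A : Type u) [CommRing A] [HenselianLocalRing A] (T : Type v)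
    [CommRing T] [Algebra A T] [Algebra.FiniteType A T] (𝔮 : Ideal T) [𝔮.IsPrime]
    [𝔮.LiesOver (maximalIdeal A)] [Algebra.QuasiFiniteAt A 𝔮] :
    Module.Finite A (Localization.AtPrime 𝔮) ∧
      Function.Surjective (algebraMap T (Localization.AtPrime 𝔮)) := by
  obtain ⟨e, he, hfin, hnot⟩ := Groth.L05.exists_idem_finiteType (A := A) (S := T)
  have heq : e ∉ 𝔮 := fun h => hnot 𝔮 h inferInstance inferInstance
  let J₀ : Ideal T := Ideal.span {1 - e}
  haveI := hfin
  obtain ⟨ι, _, ε, hε, hloc⟩ := Groth.L05.exists_idem_local_of_finite (A := A) (T ⧸ J₀)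
  have hJ₀ : J₀ ≤ 𝔮 := Ideal.span_le.mpr (Set.singleton_subset_iff.mpr
    ((‹𝔮.IsPrime›.mem_or_mem (show e * (1 - e) ∈ 𝔮 by
      rw [mul_sub, mul_one, he.eq, sub_self]; exact zero_mem _)).resolve_left heq))
  haveI : (𝔮.map (Ideal.Quotient.mk J₀)).IsPrime :=
    Ideal.map_isPrime_of_surjective Ideal.Quotient.mk_surjective (by rwa [Ideal.mk_ker])
  have hcomap : (𝔮.map (Ideal.Quotient.mk J₀)).comap (Ideal.Quotient.mk J₀) = 𝔮 := by
    rw [Ideal.comap_map_of_surjective _ Ideal.Quotient.mk_surjective, ← RingHom.ker_eq_comap_bot,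
      Ideal.mk_ker, sup_eq_left.mpr hJ₀]
  obtain ⟨i, hi⟩ : ∃ i, ε i ∉ 𝔮.map (Ideal.Quotient.mk J₀) := by
    by_contra! hno
    refine (inferInstance : (𝔮.map (Ideal.Quotient.mk J₀)).IsPrime).ne_top ?_
    rw [Ideal.eq_top_iff_one, ← hε.complete]
    exact sum_mem fun i _ => hno i
  obtain ⟨f, hf⟩ := Ideal.Quotient.mk_surjective (ε i)
  let P : Ideal (T ⧸ J₀) := Ideal.span {1 - ε i}
  let ψ : T →ₐ[A] (T ⧸ J₀) ⧸ P := (Ideal.Quotient.mkₐ A P).comp (Ideal.Quotient.mkₐ A J₀)
  have hψ : Function.Surjective ψ :=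
    Ideal.Quotient.mk_surjective.comp Ideal.Quotient.mk_surjective
  haveI := hloc i
  haveI : Module.Finite A ((T ⧸ J₀) ⧸ P) := inferInstance
  -- the prime at hand goes to the maximal ideal
  have hker : RingHom.ker ψ.toRingHom ≤ 𝔮 := by
    intro x hx
    rw [← hcomap, Ideal.mem_comap]
    have hx' : Ideal.Quotient.mk J₀ x ∈ P := Ideal.Quotient.eq_zero_iff_mem.mp hx
    refine Ideal.span_le.mpr (Set.singleton_subset_iff.mpr ?_) hx'
    exact ((inferInstance : (𝔮.map (Ideal.Quotient.mk J₀)).IsPrime).mem_or_mem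
      (show ε i * (1 - ε i) ∈ 𝔮.map (Ideal.Quotient.mk J₀) by
        rw [mul_sub, mul_one, (hε.idem i).eq, sub_self]; exact zero_mem _)).resolve_left hi
  let n := 𝔮.map ψ.toRingHom
  haveI : n.IsPrime := Ideal.map_isPrime_of_surjective hψ hker
  have hn : n.comap ψ.toRingHom = 𝔮 := by
    show (𝔮.map ψ.toRingHom).comap ψ.toRingHom = 𝔮
    rw [Ideal.comap_map_of_surjective ψ.toRingHom hψ, ← RingHom.ker_eq_comap_bot, sup_eq_left.mpr hker]
  have hnmax : n = maximalIdeal _ := by
    refine eq_maximalIdeal ?_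
    refine Ideal.isMaximal_of_isIntegral_of_isMaximal_comap (R := A) n ?_
    have : n.comap (algebraMap A ((T ⧸ J₀) ⧸ P)) = maximalIdeal A := by
      rw [← ψ.comp_algebraMap, ← Ideal.comap_comap]
      exact ((congrArg (Ideal.comap (algebraMap A T)) hn).trans
        (‹𝔮.LiesOver (maximalIdeal A)›.over.symm))
    rw [this]
    exact maximalIdeal.isMaximal A
  -- the kernel of `ψ` dies in the local ring
  have hker0 : RingHom.ker ψ.toRingHom ≤ RingHom.ker (algebraMap T (Localization.AtPrime 𝔮)) := by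
    intro x hx
    have hx' : Ideal.Quotient.mk J₀ x ∈ P := Ideal.Quotient.eq_zero_iff_mem.mp hx
    have h0 : Ideal.Quotient.mk J₀ (f * x) = 0 := by
      obtain ⟨c, hc⟩ := Ideal.mem_span_singleton'.mp hx'
      rw [map_mul, hf, ← hc, mul_left_comm, mul_sub, mul_one, (hε.idem i).eq, sub_self, mul_zero]
    obtain ⟨d, hd⟩ := Ideal.mem_span_singleton'.mp (Ideal.Quotient.eq_zero_iff_mem.mp h0)
    have he0 : e * (f * x) = 0 := by linear_combination d * (-he.eq) + e * (-hd)
    have hef : e * f ∉ 𝔮 := fun h => (‹𝔮.IsPrime›.mem_or_mem h).elim heq fun hf' => hi (by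
      rw [← hf]; exact Ideal.mem_map_of_mem _ hf')
    rw [RingHom.mem_ker, IsLocalization.map_eq_zero_iff 𝔮.primeCompl]
    exact ⟨⟨e * f, hef⟩, by rw [← he0, mul_assoc]⟩
  have hsurj : Function.Surjective (algebraMap T (Localization.AtPrime 𝔮)) := by
    intro z
    obtain ⟨a, ⟨s, hs⟩, rfl⟩ := IsLocalization.exists_mk'_eq 𝔮.primeCompl z
    have hu : IsUnit (ψ s) := by
      by_contra hu
      refine hs ?_
      rw [← hn]
      show ψ s ∈ n
      rw [hnmax]
      exact (mem_maximalIdeal _).mpr hu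
    obtain ⟨v, hv⟩ := hu.exists_right_inv
    obtain ⟨w, rfl⟩ := hψ v
    refine ⟨a * w, IsLocalization.eq_mk'_iff_mul_eq.mpr ?_⟩
    have : algebraMap T (Localization.AtPrime 𝔮) (s * w - 1) = 0 :=
      hker0 (show ψ (s * w - 1) = 0 by rw [map_sub, map_mul, hv, map_one, sub_self])
    rw [map_sub, map_one, sub_eq_zero, map_mul] at this
    rw [map_mul, mul_assoc, mul_comm (algebraMap T _ w), this, mul_one]
  refine ⟨?_, hsurj⟩
  let φ : ((T ⧸ J₀) ⧸ P) →ₗ[A] Localization.AtPrime 𝔮 :=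
    ((Ideal.Quotient.liftₐ (RingHom.ker ψ) (IsScalarTower.toAlgHom A T _)
      (fun x hx => hker0 hx)).comp
      (Ideal.quotientKerAlgEquivOfSurjective (f := ψ) hψ).symm.toAlgHom).toLinearMap
  refine Module.Finite.of_surjective φ ?_
  intro z
  obtain ⟨t, rfl⟩ := hsurj z
  refine ⟨ψ t, ?_⟩
  show Ideal.Quotient.liftₐ (RingHom.ker ψ) (IsScalarTower.toAlgHom A T _) (fun x hx => hker0 hx)
    ((Ideal.quotientKerAlgEquivOfSurjective (f := ψ) hψ).symm (ψ t)) = _
  rw [show (Ideal.quotientKerAlgEquivOfSurjective (f := ψ) hψ).symm (ψ t) = Ideal.Quotient.mk _ t from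
    (AlgEquiv.symm_apply_eq _).mpr rfl]
  rfl

end Groth.L05.HensTensor
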