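import Groth.Agent.L05.HensTensor.FinLocal
import Groth.Agent.L27.StrictCover

/-!
# (Strict) henselizations along quasi-finite maps
-/

universe u

open IsLocalRing TensorProduct

namespace Groth.L05.HensTensor

set_option linter.style.haveILetI false

/-- `Sh` is finite over `Rh` once the weakly étale map from the finite local ring of `Rh ⊗ S` below it
is surjective. -/
theorem finite_of_quasiFiniteAt {R S Rh Sh : Type u} [CommRing R] [CommRing S] [Algebra R S]
    [Algebra.FiniteType R S] (q : Ideal S) [q.IsPrime] [Algebra.QuasiFiniteAt R q]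
    [CommRing Rh] [Algebra R Rh] [HenselianLocalRing Rh] [Algebra.WeaklyEtale R Rh]
    [CommRing Sh] [IsLocalRing Sh] [Algebra S Sh] [Algebra.WeaklyEtale S Sh] [Algebra R Sh]
    [IsScalarTower R S Sh] [Algebra Rh Sh] [IsScalarTower R Rh Sh] [IsLocalHom (algebraMap Rh Sh)]
    (hq : (maximalIdeal Sh).comap (algebraMap S Sh) = q)
    (H : ∀ (D : Type u) [CommRing D] [HenselianLocalRing D] [Algebra S D] [Algebra Rh D]
      [Module.Finite Rh D] [Algebra D Sh] [IsScalarTower S D Sh] [IsScalarTower Rh D Sh]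
      [IsLocalHom (algebraMap D Sh)] [Algebra.WeaklyEtale D Sh],
      Function.Surjective (algebraMap D Sh)) :
    Module.Finite Rh Sh := by
  let φ : Rh ⊗[R] S →ₐ[Rh] Sh :=
    Algebra.TensorProduct.lift (Algebra.ofId Rh Sh) (IsScalarTower.toAlgHom R S Sh)
      (fun _ _ => Commute.all _ _)
  have hφ : ∀ s : S, φ.toRingHom (1 ⊗ₜ s) = algebraMap S Sh s := fun s => by simp [φ]
  let 𝔮 : Ideal (Rh ⊗[R] S) := (maximalIdeal Sh).comap φ.toRingHom
  haveI : 𝔮.IsPrime := Ideal.IsPrime.comap _
  haveI : 𝔮.LiesOver (maximalIdeal Rh) := ⟨by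
    show maximalIdeal Rh = 𝔮.comap (algebraMap Rh _)
    rw [show 𝔮 = (maximalIdeal Sh).comap φ.toRingHom from rfl, Ideal.comap_comap]
    have e : φ.toRingHom.comp (algebraMap Rh (Rh ⊗[R] S)) = algebraMap Rh Sh := φ.comp_algebraMap
    rw [e, IsLocalRing.maximalIdeal_comap]⟩
  haveI : Algebra.QuasiFiniteAt Rh 𝔮 := Algebra.QuasiFiniteAt.baseChange q 𝔮 (by
    rw [show 𝔮 = (maximalIdeal Sh).comap φ.toRingHom from rfl, Ideal.comap_comap, ← hq]
    congr 1
    exact RingHom.ext fun s => (hφ s).symm)
  let D := Localization.AtPrime 𝔮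
  haveI hD : Module.Finite Rh D := (finite_localization_atPrime Rh (Rh ⊗[R] S) 𝔮).1
  haveI : HenselianLocalRing D := Groth.L05.henselianLocalRing_of_finite (A := Rh) D
  letI : Algebra D Sh := (toSh φ.toRingHom D).toAlgebra
  haveI : IsLocalHom (algebraMap D Sh) := isLocalHom_toSh φ.toRingHom D
  haveI : Algebra.WeaklyEtale D Sh := weaklyEtale_toSh φ.toRingHom hφ D
  letI : Algebra S D := ((algebraMap (Rh ⊗[R] S) D).comp
    (Algebra.TensorProduct.includeRight : S →ₐ[R] Rh ⊗[R] S).toRingHom).toAlgebra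
  haveI : IsScalarTower S D Sh := IsScalarTower.of_algebraMap_eq fun s =>
    ((toSh_algebraMap φ.toRingHom D _).trans (hφ s)).symm
  haveI : IsScalarTower Rh D Sh := IsScalarTower.of_algebraMap_eq fun r => by
    rw [IsScalarTower.algebraMap_apply Rh (Rh ⊗[R] S) D]
    exact ((toSh_algebraMap φ.toRingHom D _).trans (φ.commutes r)).symm
  exact Module.Finite.of_surjective (IsScalarTower.toAlgHom Rh D Sh).toLinearMap (H D)

/-- A weakly étale local map out of a finite local algebra over a strictly henselian ring, to a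
local ring, is surjective. -/
theorem surjective_of_isSepClosed (Rh D Sh : Type u) [CommRing Rh] [IsLocalRing Rh]
    [IsSepClosed (ResidueField Rh)] [CommRing D] [HenselianLocalRing D] [Algebra Rh D]
    [Module.Finite Rh D] [CommRing Sh] [IsLocalRing Sh] [Algebra D Sh]
    [IsLocalHom (algebraMap D Sh)] [Algebra.WeaklyEtale D Sh] :
    Function.Surjective (algebraMap D Sh) := by
  haveI : IsLocalHom (algebraMap Rh D) := by
    refine ⟨fun a ha => by_contra fun hu => ?_⟩
    haveI : ((maximalIdeal D).comap (algebraMap Rh D)).IsMaximal :=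
      Ideal.isMaximal_comap_of_isIntegral_of_isMaximal _
    have h := eq_maximalIdeal this
    exact (mem_maximalIdeal _).mp ((h.symm ▸ (mem_maximalIdeal a).mpr hu :
      a ∈ (maximalIdeal D).comap (algebraMap Rh D))) ha
  haveI : IsSepClosed (ResidueField D) :=
    Algebra.IsAlgebraic.isSepClosed (F := ResidueField Rh) (E := ResidueField D)
  exact (Groth.L27.Olivier.bijective_algebraMap D Sh).2

end Groth.L05.HensTensor
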