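import Groth.Agent.L05.Hensel.IntegralDomain
import Groth.Agent.L05.HensTensor.QuasiFinite

/-!
# Strict henselizations along ind-quasi-finite maps, and their tensor products
-/

universe u

open IsLocalRing TensorProduct

namespace Groth.L05.HensTensor

set_option linter.style.haveILetI false

/-- A flat surjection is weakly étale. -/
theorem weaklyEtale_of_surjective (A B : Type u) [CommRing A] [CommRing B] [Algebra A B]
    (h : Function.Surjective (algebraMap A B)) (hflat : (algebraMap A B).Flat) :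
    Algebra.WeaklyEtale A B := by
  refine ⟨RingHom.flat_algebraMap_iff.mp hflat, RingHom.Flat.of_bijective ⟨?_, fun x => ⟨x ⊗ₜ 1, by simp⟩⟩⟩
  intro z w hzw
  have key : ∀ z : B ⊗[A] B, z = Algebra.TensorProduct.lmul' A (S := B) z ⊗ₜ[A] (1 : B) := by
    intro z
    induction z using TensorProduct.induction_on with
    | zero => simp
    | tmul a b =>
      obtain ⟨c, rfl⟩ := h b
      rw [Algebra.TensorProduct.lmul'_apply_tmul, Algebra.algebraMap_eq_smul_one, mul_smul_comm,
        mul_one, ← TensorProduct.smul_tmul]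
    | add a b ha hb => rw [map_add, TensorProduct.add_tmul, ← ha, ← hb]
  have hzw' : Algebra.TensorProduct.lmul' A (S := B) z = Algebra.TensorProduct.lmul' A (S := B) w := hzw
  rw [key z, key w, hzw']

/-- A local algebra integral over a local ring has local structure map. -/
theorem isLocalHom_of_isIntegral (A D : Type u) [CommRing A] [IsLocalRing A] [CommRing D]
    [IsLocalRing D] [Algebra A D] [Algebra.IsIntegral A D] : IsLocalHom (algebraMap A D) := by
  refine ⟨fun a ha => by_contra fun hu => ?_⟩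
  haveI : ((maximalIdeal D).comap (algebraMap A D)).IsMaximal :=
    Ideal.isMaximal_comap_of_isIntegral_of_isMaximal _
  have h := eq_maximalIdeal this
  exact (mem_maximalIdeal _).mp ((h.symm ▸ (mem_maximalIdeal a).mpr hu :
    a ∈ (maximalIdeal D).comap (algebraMap A D))) ha

/-- A weakly étale local map out of a local algebra integral over a strictly henselian ring is
surjective. -/
theorem surjective_of_isSepClosed_of_isIntegral (Rh D Sh : Type u) [CommRing Rh]
    [HenselianLocalRing Rh] [IsSepClosed (ResidueField Rh)] [CommRing D] [IsLocalRing D]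
    [Algebra Rh D] [Algebra.IsIntegral Rh D] [CommRing Sh] [IsLocalRing Sh] [Algebra D Sh]
    [IsLocalHom (algebraMap D Sh)] [Algebra.WeaklyEtale D Sh] :
    Function.Bijective (algebraMap D Sh) := by
  haveI := isLocalHom_of_isIntegral Rh D
  haveI := Groth.L05.henselianLocalRing_of_integral (A := Rh) D
  haveI : Algebra.IsIntegral (ResidueField Rh) (ResidueField D) := by
    refine ⟨fun x => ?_⟩
    obtain ⟨d, rfl⟩ := residue_surjective x
    obtain ⟨f, hf, hfd⟩ := Algebra.IsIntegral.isIntegral (R := Rh) d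
    refine ⟨f.map (residue Rh), hf.map _, ?_⟩
    rw [Polynomial.eval₂_map]
    have := congrArg (residue D) hfd
    rwa [Polynomial.hom_eval₂, map_zero] at this
  haveI : IsSepClosed (ResidueField D) :=
    Groth.L05.isSepClosed_of_algebraic (ResidueField Rh) (ResidueField D)
  exact Groth.L27.Olivier.bijective_algebraMap D Sh

/-- If `S` is a union of quasi-finite subalgebras, then the strictly henselian `Sh` is integral
over `Rh`. -/
theorem isIntegral_of_indQuasiFinite {R S Rh Sh : Type u} [CommRing R] [CommRing S] [Algebra R S]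
    (H : ∀ s : Finset S, ∃ B₀ : Subalgebra R S, (↑s : Set S) ⊆ ↑B₀ ∧
      Algebra.FiniteType R ↥B₀ ∧ Algebra.QuasiFinite R ↥B₀)
    [CommRing Rh] [Algebra R Rh] [HenselianLocalRing Rh] [IsSepClosed (ResidueField Rh)]
    [Algebra.WeaklyEtale R Rh] [CommRing Sh] [IsLocalRing Sh] [Algebra S Sh]
    [Algebra.WeaklyEtale S Sh] [Algebra R Sh] [IsScalarTower R S Sh] [Algebra Rh Sh]
    [IsScalarTower R Rh Sh] [IsLocalHom (algebraMap Rh Sh)] :
    Algebra.IsIntegral Rh Sh := by
  classical
  let φ : Rh ⊗[R] S →ₐ[Rh] Sh :=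
    Algebra.TensorProduct.lift (Algebra.ofId Rh Sh) (IsScalarTower.toAlgHom R S Sh)
      (fun _ _ => Commute.all _ _)
  have hφ : ∀ s : S, φ.toRingHom (1 ⊗ₜ s) = algebraMap S Sh s := fun s => by simp [φ]
  let 𝔮 : Ideal (Rh ⊗[R] S) := (maximalIdeal Sh).comap φ.toRingHom
  haveI : 𝔮.IsPrime := Ideal.IsPrime.comap _
  let D := Localization.AtPrime 𝔮
  haveI hint : Algebra.IsIntegral Rh D := by
    refine ⟨fun z => ?_⟩
    obtain ⟨a, ⟨b, hb⟩, rfl⟩ := IsLocalization.exists_mk'_eq 𝔮.primeCompl z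
    obtain ⟨sa, ha⟩ := TensorProduct.exists_finset a
    obtain ⟨sb, hb'⟩ := TensorProduct.exists_finset b
    obtain ⟨B₀, hB₀, _, _⟩ := H ((sa ∪ sb).image Prod.snd)
    let ι : Rh ⊗[R] B₀ →ₐ[Rh] Rh ⊗[R] S := Algebra.TensorProduct.map (AlgHom.id Rh Rh) B₀.val
    have hmem : ∀ t : Finset (Rh × S), t ⊆ sa ∪ sb → (∑ i ∈ t, i.1 ⊗ₜ[R] i.2) ∈ ι.range := by
      intro t ht
      refine sum_mem fun i hi => ⟨i.1 ⊗ₜ ⟨i.2, hB₀ (Finset.mem_coe.mpr ?_)⟩, by simp [ι]⟩
      exact Finset.mem_image_of_mem _ (ht hi)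
    obtain ⟨a₀, ha₀⟩ : a ∈ ι.range := ha ▸ hmem sa Finset.subset_union_left
    obtain ⟨b₀, hb₀⟩ : b ∈ ι.range := hb' ▸ hmem sb Finset.subset_union_right
    let 𝔮₀ : Ideal (Rh ⊗[R] B₀) := 𝔮.comap ι.toRingHom
    haveI : 𝔮₀.IsPrime := Ideal.IsPrime.comap _
    haveI : 𝔮₀.LiesOver (maximalIdeal Rh) := ⟨by
      show maximalIdeal Rh = 𝔮₀.comap (algebraMap Rh _)
      rw [show 𝔮₀ = 𝔮.comap ι.toRingHom from rfl, Ideal.comap_comap,
        show 𝔮 = (maximalIdeal Sh).comap φ.toRingHom from rfl, Ideal.comap_comap]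
      have e : φ.toRingHom.comp (ι.toRingHom.comp (algebraMap Rh (Rh ⊗[R] B₀))) = algebraMap Rh Sh :=
        (φ.comp ι).comp_algebraMap
      rw [e, IsLocalRing.maximalIdeal_comap]⟩
    let q₀ : Ideal B₀ := 𝔮₀.comap (Algebra.TensorProduct.includeRight : B₀ →ₐ[R] Rh ⊗[R] B₀).toRingHom
    haveI : q₀.IsPrime := Ideal.IsPrime.comap _
    haveI : Algebra.QuasiFiniteAt Rh 𝔮₀ := Algebra.QuasiFiniteAt.baseChange q₀ 𝔮₀ rfl
    haveI := (finite_localization_atPrime Rh (Rh ⊗[R] B₀) 𝔮₀).1
    let j : Localization.AtPrime 𝔮₀ →ₐ[Rh] D :=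
      { Localization.localRingHom 𝔮₀ 𝔮 ι.toRingHom rfl with
        commutes' := fun r => by
          show Localization.localRingHom 𝔮₀ 𝔮 ι.toRingHom rfl (algebraMap Rh _ r) = _
          rw [IsScalarTower.algebraMap_apply Rh (Rh ⊗[R] B₀) (Localization.AtPrime 𝔮₀),
            Localization.localRingHom_to_map, IsScalarTower.algebraMap_apply Rh (Rh ⊗[R] S) D]
          exact congrArg _ (ι.commutes r) }
    have hb₀' : b₀ ∈ 𝔮₀.primeCompl := fun h => hb (by rw [← hb₀]; exact h)
    have hj : j (IsLocalization.mk' _ a₀ ⟨b₀, hb₀'⟩) = IsLocalization.mk' D a ⟨b, hb⟩ := by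
      show Localization.localRingHom 𝔮₀ 𝔮 ι.toRingHom rfl _ = _
      rw [Localization.localRingHom_mk']
      congr 1
      exact Subtype.ext hb₀
    rw [← hj]
    exact (Algebra.IsIntegral.isIntegral (R := Rh) _).map j
  letI : Algebra D Sh := (toSh φ.toRingHom D).toAlgebra
  haveI : IsLocalHom (algebraMap D Sh) := isLocalHom_toSh φ.toRingHom D
  haveI : Algebra.WeaklyEtale D Sh := weaklyEtale_toSh φ.toRingHom hφ D
  haveI : IsScalarTower Rh D Sh := IsScalarTower.of_algebraMap_eq fun r => by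
    rw [IsScalarTower.algebraMap_apply Rh (Rh ⊗[R] S) D]
    exact ((toSh_algebraMap φ.toRingHom D _).trans (φ.commutes r)).symm
  have hbij := surjective_of_isSepClosed_of_isIntegral Rh D Sh
  refine ⟨fun x => ?_⟩
  obtain ⟨d, rfl⟩ := hbij.2 x
  exact (Algebra.IsIntegral.isIntegral (R := Rh) d).map (IsScalarTower.toAlgHom Rh D Sh)

/-- Modulo all maximal ideals, an element of `C ⊗ B` has a `p`-power in `C` when the residue
extension of `B` is purely inseparable. -/
theorem exists_pow_sub_mem (A B C : Type u) [CommRing A] [IsLocalRing A] [CommRing B] [IsLocalRing B]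
    [Algebra A B] [IsLocalHom (algebraMap A B)]
    [IsPurelyInseparable (ResidueField A) (ResidueField B)]
    [CommRing C] [IsLocalRing C] [Algebra A C] [IsLocalHom (algebraMap A C)]
    (p : ℕ) [ExpChar (ResidueField A) p]
    (hC : ∀ n : Ideal (C ⊗[A] B), n.IsMaximal → n.comap (algebraMap C (C ⊗[A] B)) = maximalIdeal C)
    (hB : ∀ n : Ideal (C ⊗[A] B), n.IsMaximal →
      maximalIdeal B ≤ n.comap (Algebra.TensorProduct.includeRight : B →ₐ[A] C ⊗[A] B))
    (t : C ⊗[A] B) :
    ∃ (c : C) (k : ℕ), ∀ n : Ideal (C ⊗[A] B), n.IsMaximal →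
      t ^ p ^ k - algebraMap C (C ⊗[A] B) c ∈ n := by
  let iB : B →ₐ[A] C ⊗[A] B := Algebra.TensorProduct.includeRight
  have key : ∀ t : C ⊗[A] B, ∃ (c : C) (k : ℕ), ∀ n : Ideal (C ⊗[A] B), n.IsMaximal →
      Ideal.Quotient.mk n t ^ p ^ k = Ideal.Quotient.mk n (algebraMap C (C ⊗[A] B) c) := by
    intro t
    induction t using TensorProduct.induction_on with
    | zero => exact ⟨0, 0, fun n _ => by simp⟩
    | add x y hx hy =>
      obtain ⟨c, k, hc⟩ := hx
      obtain ⟨d, l, hd⟩ := hy
      refine ⟨c ^ p ^ l + d ^ p ^ k, k + l, fun n hn => ?_⟩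
      letI := Ideal.Quotient.field n
      let g : ResidueField A →+* (C ⊗[A] B) ⧸ n := Ideal.Quotient.lift (maximalIdeal A)
        ((Ideal.Quotient.mk n).comp (algebraMap A (C ⊗[A] B))) (fun a ha => by
          refine Ideal.Quotient.eq_zero_iff_mem.mpr ?_
          rw [IsScalarTower.algebraMap_apply A C (C ⊗[A] B), ← Ideal.mem_comap, hC n hn,
            ← Ideal.mem_comap, IsLocalRing.maximalIdeal_comap]
          exact ha)
      haveI : ExpChar ((C ⊗[A] B) ⧸ n) p := expChar_of_injective_ringHom g.injective p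
      rw [map_add, add_pow_expChar_pow, map_add, map_add, map_pow, map_pow, map_pow, map_pow,
        ← hc n hn, ← hd n hn, ← pow_mul, ← pow_mul, ← pow_add, ← pow_add, add_comm l k]
    | tmul c b =>
      obtain ⟨k, a, ha⟩ := IsPurelyInseparable.pow_mem (ResidueField A) p (residue B b)
      obtain ⟨a, rfl⟩ := residue_surjective a
      have hd : b ^ p ^ k - algebraMap A B a ∈ maximalIdeal B := by
        refine (residue_eq_zero_iff _).mp ?_
        rw [map_sub, map_pow, ← ha]
        exact sub_self _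
      refine ⟨c ^ p ^ k * algebraMap A C a, k, fun n hn => ?_⟩
      rw [← map_pow, Ideal.Quotient.eq]
      have : (c ⊗ₜ[A] b) ^ p ^ k - algebraMap C (C ⊗[A] B) (c ^ p ^ k * algebraMap A C a) =
          algebraMap C (C ⊗[A] B) (c ^ p ^ k) * iB (b ^ p ^ k - algebraMap A B a) := by
        rw [map_sub, AlgHom.commutes, map_mul, ← IsScalarTower.algebraMap_apply A C (C ⊗[A] B),
          mul_sub, Algebra.TensorProduct.tmul_pow, Algebra.TensorProduct.algebraMap_apply,
          Algebra.TensorProduct.includeRight_apply, Algebra.TensorProduct.tmul_mul_tmul,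
          mul_one, one_mul, Algebra.algebraMap_self, RingHom.id_apply]
      rw [this]
      exact n.mul_mem_left _ (hB n hn hd)
  obtain ⟨c, k, hc⟩ := key t
  exact ⟨c, k, fun n hn => Ideal.Quotient.eq.mp (by rw [map_pow]; exact hc n hn)⟩

/-- If moreover the maximal ideals of `C ⊗ B` lie over the closed points, it is local. -/
theorem isLocalRing_tensor_of_comap (A B C : Type u) [CommRing A] [IsLocalRing A] [CommRing B]
    [IsLocalRing B] [Algebra A B] [IsLocalHom (algebraMap A B)]
    [IsPurelyInseparable (ResidueField A) (ResidueField B)]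
    [CommRing C] [IsLocalRing C] [Algebra A C] [IsLocalHom (algebraMap A C)]
    [Nontrivial (C ⊗[A] B)]
    (hC : ∀ n : Ideal (C ⊗[A] B), n.IsMaximal → n.comap (algebraMap C (C ⊗[A] B)) = maximalIdeal C)
    (hB : ∀ n : Ideal (C ⊗[A] B), n.IsMaximal →
      maximalIdeal B ≤ n.comap (Algebra.TensorProduct.includeRight : B →ₐ[A] C ⊗[A] B)) :
    IsLocalRing (C ⊗[A] B) := by
  obtain ⟨p, hp⟩ := ExpChar.exists (ResidueField A)
  haveI := hp
  have hp0 : ∀ k, p ^ k ≠ 0 := fun k => (Nat.pow_pos (expChar_pos (ResidueField A) p)).ne'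
  have hsub : ∀ n n' : Ideal (C ⊗[A] B), n.IsMaximal → n'.IsMaximal → n ≤ n' := by
    intro n n' hn hn' t ht
    obtain ⟨c, k, hc⟩ := exists_pow_sub_mem A B C p hC hB t
    have h1 : algebraMap C (C ⊗[A] B) c ∈ n := by
      simpa using sub_mem (Ideal.pow_mem_of_mem n ht _ (Nat.pos_of_ne_zero (hp0 k))) (hc n hn)
    have h2 : algebraMap C (C ⊗[A] B) c ∈ n' := by
      rw [← Ideal.mem_comap, hC n' hn', ← hC n hn]
      exact h1
    exact hn'.isPrime.mem_of_pow_mem (p ^ k) (by simpa using add_mem (hc n' hn') h2)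
  obtain ⟨n, hn⟩ := Ideal.exists_maximal (C ⊗[A] B)
  exact IsLocalRing.of_unique_max_ideal ⟨n, hn, fun n' hn' =>
    le_antisymm (hsub n' n hn' hn) (hsub n n' hn hn')⟩

/-- The tensor product of a local algebra with an integral local algebra over a strictly henselian
ring, when it is non-trivial, is local. -/
theorem isLocalRing_tensor (A B C : Type u) [CommRing A] [IsLocalRing A]
    [IsSepClosed (ResidueField A)] [CommRing B] [IsLocalRing B] [Algebra A B]
    [Algebra.IsIntegral A B] [CommRing C] [IsLocalRing C] [Algebra A C] [IsLocalHom (algebraMap A C)]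
    [Nontrivial (C ⊗[A] B)] : IsLocalRing (C ⊗[A] B) := by
  haveI := isLocalHom_of_isIntegral A B
  haveI : Algebra.IsAlgebraic (ResidueField A) (ResidueField B) := ⟨fun x => by
    obtain ⟨d, rfl⟩ := residue_surjective x
    obtain ⟨f, hf, hfd⟩ := Algebra.IsIntegral.isIntegral (R := A) d
    refine IsIntegral.isAlgebraic ⟨f.map (residue A), hf.map _, ?_⟩
    rw [Polynomial.eval₂_map]
    have := congrArg (residue B) hfd
    rwa [Polynomial.hom_eval₂, map_zero] at this⟩
  haveI := Groth.L05.isPurelyInseparable_of_isSepClosed_base (ResidueField A) (ResidueField B)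
  let iR : C →ₐ[A] C ⊗[A] B := Algebra.TensorProduct.includeLeft
  let iB : B →ₐ[A] C ⊗[A] B := Algebra.TensorProduct.includeRight
  have hC : ∀ n : Ideal (C ⊗[A] B), n.IsMaximal → n.comap (algebraMap C (C ⊗[A] B)) = maximalIdeal C :=
    fun n hn => eq_maximalIdeal (Ideal.isMaximal_comap_of_isIntegral_of_isMaximal n)
  have hB : ∀ n : Ideal (C ⊗[A] B), n.IsMaximal → maximalIdeal B ≤ n.comap iB := by
    intro n hn
    haveI := hn.isPrime
    have : (n.comap iB).comap (algebraMap A B) = maximalIdeal A := by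
      rw [← IsLocalRing.maximalIdeal_comap (algebraMap A C), ← hC n hn, Ideal.comap_comap,
        ← IsScalarTower.algebraMap_eq]
      ext a
      simp only [Ideal.mem_comap, AlgHom.commutes]
    exact (eq_maximalIdeal (Ideal.isMaximal_of_isIntegral_of_isMaximal_comap (R := A) (n.comap iB)
      (this ▸ maximalIdeal.isMaximal A))).ge
  exact isLocalRing_tensor_of_comap A B C hC hB

end Groth.L05.HensTensor
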