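import Groth.Agent.L05.HensTensor.Integral

/-!
# Strict henselization commutes with tensor products along integral maps
-/

universe u

open IsLocalRing TensorProduct

namespace Groth.L05.HensTensor

set_option linter.style.haveILetI false

/-- A ring map is weakly étale. -/
def WEh {A B : Type u} [CommRing A] [CommRing B] (f : A →+* B) : Prop :=
  letI := f.toAlgebra
  Algebra.WeaklyEtale A B

theorem wEh_algebraMap (A B : Type u) [CommRing A] [CommRing B] [Algebra A B]
    [h : Algebra.WeaklyEtale A B] : WEh (algebraMap A B) := by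
  show @Algebra.WeaklyEtale A B _ _ (algebraMap A B).toAlgebra
  rwa [show (algebraMap A B).toAlgebra = ‹Algebra A B› from Algebra.algebra_ext _ _ fun _ => rfl]

theorem WEh.comp {A B C : Type u} [CommRing A] [CommRing B] [CommRing C] {f : A →+* B} {g : B →+* C}
    (hg : WEh g) (hf : WEh f) : WEh (g.comp f) := by
  letI := f.toAlgebra
  letI := g.toAlgebra
  letI : Algebra A C := (g.comp f).toAlgebra
  haveI : IsScalarTower A B C := IsScalarTower.of_algebraMap_eq' rfl
  haveI : Algebra.WeaklyEtale A B := hf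
  haveI : Algebra.WeaklyEtale B C := hg
  exact Algebra.WeaklyEtale.trans A B C

theorem wEh_of_bijective {A B : Type u} [CommRing A] [CommRing B] (f : A →+* B)
    (h : Function.Bijective f) : WEh f := by
  letI := f.toAlgebra
  exact weaklyEtale_of_bijective A B h

/-- Base change of weakly étale maps on the left factor. -/
theorem wEh_map_left {A B B' C : Type u} [CommRing A] [CommRing B] [CommRing B'] [CommRing C]
    [Algebra A B] [Algebra A B'] [Algebra A C] [Algebra B B'] [IsScalarTower A B B']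
    [Algebra.WeaklyEtale B B'] :
    WEh (Algebra.TensorProduct.map (IsScalarTower.toAlgHom A B B') (AlgHom.id A C)).toRingHom := by
  let e : (B ⊗[A] C) ⊗[B] B' →+* B' ⊗[A] C :=
    (Algebra.TensorProduct.cancelBaseChange A B B' B' C).toAlgHom.toRingHom.comp
      (Algebra.TensorProduct.comm B (B ⊗[A] C) B').toAlgHom.toRingHom
  have he : Function.Bijective e :=
    (Algebra.TensorProduct.cancelBaseChange A B B' B' C).bijective.comp
      (Algebra.TensorProduct.comm B (B ⊗[A] C) B').bijective
  have h := (wEh_of_bijective e he).comp (wEh_algebraMap (B ⊗[A] C) ((B ⊗[A] C) ⊗[B] B'))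
  have hc : e.comp (algebraMap (B ⊗[A] C) ((B ⊗[A] C) ⊗[B] B')) =
      (Algebra.TensorProduct.map (IsScalarTower.toAlgHom A B B') (AlgHom.id A C)).toRingHom := by
    refine RingHom.ext fun x => ?_
    induction x using TensorProduct.induction_on with
    | zero => simp
    | tmul b c => simp [e, Algebra.smul_def]
    | add x y hx hy => rw [map_add, map_add, hx, hy]
  rwa [hc] at h

/-- Base change of weakly étale maps on the right factor. -/
theorem wEh_map_right {A B C C' : Type u} [CommRing A] [CommRing B] [CommRing C] [CommRing C']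
    [Algebra A B] [Algebra A C] [Algebra A C'] [Algebra C C'] [IsScalarTower A C C']
    [Algebra.WeaklyEtale C C'] :
    WEh (Algebra.TensorProduct.map (AlgHom.id A B) (IsScalarTower.toAlgHom A C C')).toRingHom := by
  have h := ((wEh_of_bijective (Algebra.TensorProduct.comm A C' B).toAlgHom.toRingHom
    (Algebra.TensorProduct.comm A C' B).bijective).comp
      (wEh_map_left (A := A) (B := C) (B' := C') (C := B))).comp
    (wEh_of_bijective (Algebra.TensorProduct.comm A B C).toAlgHom.toRingHom
      (Algebra.TensorProduct.comm A B C).bijective)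
  convert h using 1
  refine RingHom.ext fun x => ?_
  induction x using TensorProduct.induction_on with
  | zero => simp
  | tmul b c => simp
  | add x y hx hy => rw [map_add, map_add, hx, hy]

/-- The comparison map for strict henselizations of a tensor product is bijective when `Bsh` is
integral over `Ash`. -/
theorem bijective_lift {A B C Ash Bsh Csh Dsh : Type u} [CommRing A] [CommRing B] [CommRing C]
    [Algebra A B] [Algebra A C] [CommRing Ash] [HenselianLocalRing Ash]
    [IsSepClosed (ResidueField Ash)] [Algebra A Ash] [Algebra.WeaklyEtale A Ash]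
    [CommRing Bsh] [IsLocalRing Bsh] [Algebra B Bsh] [Algebra.WeaklyEtale B Bsh] [Algebra A Bsh]
    [IsScalarTower A B Bsh] [Algebra Ash Bsh] [IsScalarTower A Ash Bsh]
    [Algebra.IsIntegral Ash Bsh]
    [CommRing Csh] [HenselianLocalRing Csh] [IsSepClosed (ResidueField Csh)] [Algebra C Csh]
    [Algebra.WeaklyEtale C Csh] [Algebra A Csh]
    [IsScalarTower A C Csh] [Algebra Ash Csh] [IsScalarTower A Ash Csh]
    [IsLocalHom (algebraMap Ash Csh)]
    [CommRing Dsh] [IsLocalRing Dsh] [Algebra (B ⊗[A] C) Dsh]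
    [Algebra.WeaklyEtale (B ⊗[A] C) Dsh]
    [Algebra Bsh Dsh] [Algebra Csh Dsh] [IsLocalHom (algebraMap Csh Dsh)]
    (hB : ∀ b : B, algebraMap Bsh Dsh (algebraMap B Bsh b) = algebraMap (B ⊗[A] C) Dsh (b ⊗ₜ[A] 1))
    (hC : ∀ c : C, algebraMap Csh Dsh (algebraMap C Csh c) = algebraMap (B ⊗[A] C) Dsh (1 ⊗ₜ[A] c))
    [Algebra Ash Dsh] [IsScalarTower Ash Bsh Dsh] [IsScalarTower Ash Csh Dsh] :
    Function.Bijective (Algebra.TensorProduct.lift (IsScalarTower.toAlgHom Ash Bsh Dsh)
      (IsScalarTower.toAlgHom Ash Csh Dsh) (fun _ _ => Commute.all _ _)) := by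
  let φ : Csh ⊗[Ash] Bsh →ₐ[Csh] Dsh :=
    Algebra.TensorProduct.lift (Algebra.ofId Csh Dsh) (IsScalarTower.toAlgHom Ash Bsh Dsh)
      (fun _ _ => Commute.all _ _)
  haveI : Nontrivial (Csh ⊗[Ash] Bsh) := RingHom.domain_nontrivial φ.toRingHom
  haveI := isLocalRing_tensor Ash Bsh Csh
  -- the map from `B ⊗ C`
  let ρ : B ⊗[A] C →+* Csh ⊗[Ash] Bsh :=
    ((Algebra.TensorProduct.comm Ash Bsh Csh).toAlgHom.toRingHom.comp
      (Algebra.TensorProduct.mapOfCompatibleSMul Ash A Bsh Bsh Csh).toRingHom).comp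
      ((Algebra.TensorProduct.map (AlgHom.id A Bsh) (IsScalarTower.toAlgHom A C Csh)).toRingHom.comp
        (Algebra.TensorProduct.map (IsScalarTower.toAlgHom A B Bsh) (AlgHom.id A C)).toRingHom)
  have hρ : WEh ρ := by
    refine ((wEh_of_bijective _ (Algebra.TensorProduct.comm Ash Bsh Csh).bijective).comp ?_).comp
      (wEh_map_right.comp wEh_map_left)
    letI := (Algebra.TensorProduct.mapOfCompatibleSMul Ash A Bsh Bsh Csh).toRingHom.toAlgebra
    exact weaklyEtale_of_surjective _ _ (Algebra.TensorProduct.mapOfCompatibleSMul_surjective Ash A Bsh Bsh Csh)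
      (RingHom.Flat.mapOfCompatibleSMul Bsh Csh (Algebra.WeaklyEtale.flat_lmul' A Ash))
  letI : Algebra (B ⊗[A] C) (Csh ⊗[Ash] Bsh) := ρ.toAlgebra
  haveI : Algebra.WeaklyEtale (B ⊗[A] C) (Csh ⊗[Ash] Bsh) := hρ
  have hρφ : φ.toRingHom.comp ρ = algebraMap (B ⊗[A] C) Dsh := by
    refine RingHom.ext fun x => ?_
    induction x using TensorProduct.induction_on with
    | zero => simp
    | tmul b c =>
      rw [show b ⊗ₜ[A] c = b ⊗ₜ[A] 1 * 1 ⊗ₜ[A] c by simp, map_mul, map_mul]
      simp only [ρ, φ, RingHom.comp_apply]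
      simp [← hB, ← hC]
    | add x y hx hy => rw [map_add, map_add, hx, hy]
  letI : Algebra (Csh ⊗[Ash] Bsh) Dsh := φ.toRingHom.toAlgebra
  haveI : IsScalarTower (B ⊗[A] C) (Csh ⊗[Ash] Bsh) Dsh := IsScalarTower.of_algebraMap_eq' hρφ.symm
  obtain ⟨h1, h2⟩ := Groth.L20.TorAmp.weaklyEtale_cancel (B ⊗[A] C) (Csh ⊗[Ash] Bsh) Dsh
  haveI : Algebra.WeaklyEtale (Csh ⊗[Ash] Bsh) Dsh := ⟨h1, h2⟩
  haveI : IsLocalHom (algebraMap Csh (Csh ⊗[Ash] Bsh)) := isLocalHom_of_isIntegral _ _
  haveI : IsLocalHom (algebraMap (Csh ⊗[Ash] Bsh) Dsh) := by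
    refine ((IsLocalRing.local_hom_TFAE _).out 0 4 rfl rfl).mpr ?_
    haveI : ((maximalIdeal Dsh).comap φ.toRingHom).IsPrime := Ideal.IsPrime.comap _
    refine eq_maximalIdeal (Ideal.isMaximal_of_isIntegral_of_isMaximal_comap (R := Csh) _ ?_)
    have e : φ.toRingHom.comp (algebraMap Csh (Csh ⊗[Ash] Bsh)) = algebraMap Csh Dsh :=
      φ.comp_algebraMap
    show (((maximalIdeal Dsh).comap φ.toRingHom).comap (algebraMap Csh (Csh ⊗[Ash] Bsh))).IsMaximal
    rw [Ideal.comap_comap, e, IsLocalRing.maximalIdeal_comap]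
    exact maximalIdeal.isMaximal Csh
  have hbij := surjective_of_isSepClosed_of_isIntegral Csh (Csh ⊗[Ash] Bsh) Dsh
  have e : ⇑(Algebra.TensorProduct.lift (IsScalarTower.toAlgHom Ash Bsh Dsh)
      (IsScalarTower.toAlgHom Ash Csh Dsh) (fun _ _ => Commute.all _ _)) =
      ⇑φ.toRingHom ∘ Algebra.TensorProduct.comm Ash Bsh Csh := by
    funext x
    induction x using TensorProduct.induction_on with
    | zero => simp
    | tmul b c => simp [φ, mul_comm]
    | add x y hx hy => simp only [Function.comp_apply, map_add] at hx hy ⊢; rw [hx, hy]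
  rw [e]
  exact hbij.comp (Algebra.TensorProduct.comm Ash Bsh Csh).bijective

end Groth.L05.HensTensor
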